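import Mathlib

/-! The largest separable algebraic subfield of an algebra with connected spectrum. -/

set_option autoImplicit false
universe u

namespace Groth.Agent.CompScheme

open TensorProduct

variable {k : Type u} [Field k] {R : Type u} [CommRing R] [Algebra k R]

/-- A finite separable subfield of an algebra. -/
def IsSepField (L : Subalgebra k R) : Prop :=
  IsField L ∧ Module.Finite k L ∧ Algebra.IsSeparable k L

theorem isSepField_of_formallyUnramified [Nontrivial R]
    (hR : ∀ e : R, IsIdempotentElem e → e = 0 ∨ e = 1) (M : Subalgebra k R)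
    [Module.Finite k M] [Algebra.FormallyUnramified k M] : IsSepField M := by
  haveI : IsReduced M := Algebra.FormallyUnramified.isReduced_of_field k M
  haveI : IsArtinianRing M := IsArtinianRing.of_finite k M
  haveI : ConnectedSpace (PrimeSpectrum M) := by
    haveI : PreconnectedSpace (PrimeSpectrum M) := preconnectedSpace_iff_clopen.mpr fun s hs => by
      obtain ⟨e, he, rfl⟩ := PrimeSpectrum.exists_idempotent_basicOpen_eq_of_isClopen hs
      rcases hR e (by simpa [IsIdempotentElem] using congrArg Subtype.val he) with h | h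
      · exact Or.inl (by simp [show e = 0 from Subtype.ext h])
      · exact Or.inr (by simp [show e = 1 from Subtype.ext h])
    exact { toNonempty := inferInstance }
  haveI : Subsingleton (PrimeSpectrum M) := PreconnectedSpace.trivial_of_discrete
  have hF : IsField M := (PrimeSpectrum.subsingleton_iff_isField_of_isReduced).1 inferInstance
  refine ⟨hF, inferInstance, ?_⟩
  letI := hF.toField
  haveI : Algebra.EssFiniteType k M := inferInstance
  exact Algebra.FormallyUnramified.isSeparable k M

theorem IsSepField.formallyUnramified {L : Subalgebra k R} (h : IsSepField L) :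
    Algebra.FormallyUnramified k L := by
  letI := h.1.toField
  haveI := h.2.2
  exact Algebra.FormallyUnramified.of_isSeparable k L

theorem exists_sepField_sup [Nontrivial R] (hR : ∀ e : R, IsIdempotentElem e → e = 0 ∨ e = 1)
    {L₁ L₂ : Subalgebra k R} (h₁ : IsSepField L₁) (h₂ : IsSepField L₂) : IsSepField (L₁ ⊔ L₂) := by
  haveI := h₁.formallyUnramified
  haveI := h₂.formallyUnramified
  haveI := h₁.2.1
  haveI := h₂.2.1
  let φ : L₁ ⊗[k] L₂ →ₐ[k] R := Algebra.TensorProduct.lift L₁.val L₂.val fun _ _ => Commute.all _ _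
  have hφ : φ.range = L₁ ⊔ L₂ := by
    refine le_antisymm ?_ (sup_le ?_ ?_)
    · rintro _ ⟨z, rfl⟩
      induction z using TensorProduct.induction_on with
      | zero => exact (map_zero φ).symm ▸ zero_mem _
      | add a b ha hb => exact (map_add φ a b).symm ▸ add_mem ha hb
      | tmul a b =>
        show φ (a ⊗ₜ[k] b) ∈ _
        rw [Algebra.TensorProduct.lift_tmul]
        exact mul_mem ((le_sup_left : L₁ ≤ L₁ ⊔ L₂) a.2) ((le_sup_right : L₂ ≤ L₁ ⊔ L₂) b.2)
    · intro a ha
      exact ⟨(⟨a, ha⟩ : L₁) ⊗ₜ[k] 1, by simp [φ]⟩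
    · intro b hb
      exact ⟨1 ⊗ₜ[k] (⟨b, hb⟩ : L₂), by simp [φ]⟩
  haveI : Algebra.FormallyUnramified L₁ (L₁ ⊗[k] L₂) := inferInstance
  haveI : Algebra.FormallyUnramified k (L₁ ⊗[k] L₂) := Algebra.FormallyUnramified.comp k L₁ _
  haveI : Algebra.FormallyUnramified k φ.range :=
    Algebra.FormallyUnramified.of_surjective φ.rangeRestrict φ.rangeRestrict_surjective
  haveI : Module.Finite k φ.range :=
    Module.Finite.of_surjective φ.rangeRestrict.toLinearMap φ.rangeRestrict_surjective
  exact hφ ▸ isSepField_of_formallyUnramified hR φ.range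

/-- An algebra with connected spectrum and a point with finite residue field has a largest finite separable subfield. -/
theorem exists_max_sepField (hR : ∀ e : R, IsIdempotentElem e → e = 0 ∨ e = 1) {κ : Type u} [Field κ]
    [Algebra k κ] [Module.Finite k κ] (ρ : R →ₐ[k] κ) :
    ∃ L : Subalgebra k R, IsSepField L ∧ ∀ L', IsSepField L' → L' ≤ L := by
  haveI : Nontrivial R := ρ.toRingHom.domain_nontrivial
  have hbot : IsSepField (⊥ : Subalgebra k R) := by
    let e := Algebra.botEquivOfInjective (R := k) (A := R) (algebraMap k R).injective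
    exact ⟨MulEquiv.isField (Field.toIsField k) e.toMulEquiv, Module.Finite.equiv e.symm.toLinearEquiv,
      AlgEquiv.Algebra.isSeparable e.symm⟩
  have hle : ∀ L : Subalgebra k R, IsSepField L → Module.finrank k L ≤ Module.finrank k κ := fun L hL => by
    letI := hL.1.toField
    exact LinearMap.finrank_le_finrank_of_injective (f := (ρ.comp L.val).toLinearMap) (ρ.comp L.val).toRingHom.injective
  let S : Set ℕ := {n | ∃ L : Subalgebra k R, IsSepField L ∧ Module.finrank k L = n}
  have hSb : BddAbove S := ⟨Module.finrank k κ, fun n ⟨L, hL, hn⟩ => hn ▸ hle L hL⟩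
  obtain ⟨L, hL, hn⟩ := Nat.sSup_mem (s := S) ⟨_, ⊥, hbot, rfl⟩ hSb
  refine ⟨L, hL, fun L' hL' => ?_⟩
  have hs := exists_sepField_sup hR hL hL'
  haveI := hs.2.1
  have h1 : Module.finrank k ↥(L ⊔ L') ≤ Module.finrank k L := hn ▸ le_csSup hSb ⟨_, hs, rfl⟩
  have h2 : L.toSubmodule = (L ⊔ L').toSubmodule :=
    Submodule.eq_of_le_of_finrank_le (fun a ha => (le_sup_left : L ≤ L ⊔ L') ha) h1
  intro b hb
  have : b ∈ (L ⊔ L').toSubmodule := (le_sup_right : L' ≤ L ⊔ L') hb
  rw [← h2] at this
  exact this

end Groth.Agent.CompScheme
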