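import Groth.Agent.CompScheme.Alg
import Groth.Agent.RelVA16.Coord
import Groth.Agent.NodeFam.QuadStalk
import Groth.Agent.H23.LocNoethTop
import Mathlib

/-! Connected pieces of a scheme over a field and the spectra of their separable closures of the ground field. -/

set_option autoImplicit false
set_option backward.isDefEq.respectTransparency false
set_option backward.isDefEq.respectTransparency.types false
set_option linter.style.haveILetI false
universe u

open CategoryTheory CategoryTheory.Limits AlgebraicGeometry TopologicalSpace Opposite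

namespace Groth.Agent.CompScheme

noncomputable section

/-- Every morphism to the spectrum of a field is flat. -/
theorem flat_to_field {Z : Scheme.{u}} {L : Type u} [Field L] (m : Z ⟶ Spec (CommRingCat.of L)) : Flat m := by
  rw [IsZariskiLocalAtSource.iff_of_openCover (P := @Flat) Z.affineCover]
  intro i
  obtain ⟨φ, hφ⟩ := Spec.map_surjective (Z.affineCover.f i ≫ m)
  rw [← hφ, Flat.SpecMap_iff]
  letI := φ.hom.toAlgebra
  exact RingHom.flat_algebraMap_iff.2 inferInstance

variable {X : Scheme.{u}}

/-- A morphism from an open to an affine scheme, on sections. -/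
def gam (C : X.Opens) {A : CommRingCat.{u}} (m : (C : Scheme.{u}) ⟶ Spec A) : A ⟶ Γ(X, C) :=
  (Scheme.ΓSpecIso A).inv ≫ m.appTop ≫ C.topIso.hom

theorem eq_toSpecΓ_gam (C : X.Opens) {A : CommRingCat.{u}} (m : (C : Scheme.{u}) ⟶ Spec A) :
    m = C.toSpecΓ ≫ Spec.map (gam C m) := by
  have h : C.toSpecΓ ≫ Spec.map C.topIso.hom = Scheme.toSpecΓ C := by
    rw [Scheme.Opens.toSpecΓ, Category.assoc, ← Spec.map_comp, Iso.hom_inv_id, Spec.map_id, Category.comp_id]
  rw [gam, Spec.map_comp, Spec.map_comp, Category.assoc, reassoc_of% h, ← Scheme.toSpecΓ_naturality_assoc,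
    ← SpecMap_ΓSpecIso_hom, ← Spec.map_comp, Iso.inv_hom_id, Spec.map_id, Category.comp_id]

theorem idem_trivial (C : X.Opens) [PreconnectedSpace (C : Scheme.{u})] (e : Γ(X, C)) (he : IsIdempotentElem e) :
    e = 0 ∨ e = 1 := by
  have hgerm : ∀ (x : X) (hx : x ∈ C), X.presheaf.germ C x hx e = 0 ∨ X.presheaf.germ C x hx e = 1 := fun x hx => by
    rcases IsLocalRing.isUnit_or_isUnit_one_sub_self (X.presheaf.germ C x hx e) with h | h
    · exact Or.inr ((h.mul_eq_left).1 (by rw [← map_mul, he.eq]))
    · exact Or.inl (h.mul_right_eq_zero.1 (by rw [sub_mul, one_mul, ← map_mul, he.eq, sub_self]))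
  let S : Set (C : Scheme.{u}) := (fun c : (C : Scheme.{u}) => C.ι c) ⁻¹' (X.basicOpen e : Set X)
  have hS : IsClopen S := by
    refine ⟨?_, (X.basicOpen e).2.preimage C.ι.continuous⟩
    rw [← isOpen_compl_iff]
    have : Sᶜ = (fun c : (C : Scheme.{u}) => C.ι c) ⁻¹' (X.basicOpen (1 - e) : Set X) := by
      ext c
      show ¬ (c.1 ∈ X.basicOpen e) ↔ c.1 ∈ X.basicOpen (1 - e)
      rw [X.mem_basicOpen e c.1 c.2, X.mem_basicOpen (1 - e) c.1 c.2, map_sub, map_one]
      rcases hgerm c.1 c.2 with h | h <;> simp [h]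
    rw [this]
    exact (X.basicOpen (1 - e)).2.preimage C.ι.continuous
  rcases _root_.isClopen_iff.1 hS with h | h
  · refine Or.inl (TopCat.Presheaf.section_ext X.sheaf C e 0 fun x hx => ?_)
    refine ((hgerm x hx).resolve_right fun h1 => ?_).trans (map_zero _).symm
    have : (⟨x, hx⟩ : (C : Scheme.{u})) ∈ S := by
      show x ∈ X.basicOpen e
      rw [X.mem_basicOpen e x hx, h1]; exact isUnit_one
    rw [h] at this
    exact this
  · refine Or.inr (TopCat.Presheaf.section_ext X.sheaf C e 1 fun x hx => ?_)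
    refine ((hgerm x hx).resolve_left fun h0 => ?_).trans (map_one _).symm
    have : (⟨x, hx⟩ : (C : Scheme.{u})) ∈ S := h ▸ Set.mem_univ _
    have h2 : x ∈ X.basicOpen e := this
    rw [X.mem_basicOpen e x hx, h0] at h2
    exact not_isUnit_zero h2

variable {k : Type u} [Field k] (f : X ⟶ Spec (CommRingCat.of k))

/-- The sections over an open as an algebra over the ground field. -/
abbrev algC (C : X.Opens) : Algebra k Γ(X, C) := (gam C (C.ι ≫ f)).hom.toAlgebra

theorem exists_piece [LocallyOfFiniteType f] (C : X.Opens) [PreconnectedSpace (C : Scheme.{u})]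
    (hne : (C : Set X).Nonempty) :
    letI := algC f C
    ∃ L : Subalgebra k Γ(X, C), IsSepField L ∧ ∀ L', IsSepField L' → L' ≤ L := by
  letI := algC f C
  haveI : JacobsonSpace X := LocallyOfFiniteType.jacobsonSpace f
  obtain ⟨x, hxC, hxcl⟩ := nonempty_inter_closedPoints (Z := (C : Set X)) hne C.2.isLocallyClosed
  letI : X.Over (Spec (CommRingCat.of k)) := ⟨f⟩
  letI : Algebra k (X.residueField x) := Curv2.resAlgebra k X x
  haveI : Module.Finite k (X.residueField x) :=
    NodeFam.finite_residueField_of_isClosed f (mem_closedPoints_iff.1 hxcl) fun _ => rfl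
  refine exists_max_sepField (idem_trivial C) (κ := X.residueField x)
    { (X.evaluation C x hxC).hom with commutes' := fun c => ?_ }
  show (X.evaluation C x hxC).hom ((gam C (C.ι ≫ f)) c) = X.residue x (X.presheaf.germ ⊤ x trivial (Coh.toGlobal f c))
  have h : gam C (C.ι ≫ f) = (Scheme.ΓSpecIso (CommRingCat.of k)).inv ≫ f.appTop ≫ X.presheaf.map (homOfLE le_top).op := by
    rw [gam, Scheme.Hom.comp_appTop, Category.assoc]
    congr 2
    simp [Scheme.Opens.topIso, ← Functor.map_comp]
  rw [h]
  exact congrArg (X.residue x).hom (TopCat.Presheaf.germ_res_apply X.presheaf (homOfLE le_top) x hxC _)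

end

end Groth.Agent.CompScheme
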